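import Groth.Agent.DualExistLib.Point
import Groth.Agent.AVAmpleLib.Exist

/-!
Existence of the dual of an abelian variety over an algebraically closed field.
-/

set_option autoImplicit false
set_option maxHeartbeats 1000000
set_option maxRecDepth 8000
set_option backward.isDefEq.respectTransparency false
set_option linter.style.haveILetI false
set_option linter.unusedSectionVars false

noncomputable section

universe u

open CategoryTheory CategoryTheory.Limits MonoidalCategory CartesianMonoidalCategory MonObj AlgebraicGeometry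
open CubeConsLib AVVanishLib AVAmpleLib AVIndexLib AVThetaLib ThetaGrp AVDualLib

namespace Groth.Agent.DualExistLib

variable {k : Type u} [Field k] [IsAlgClosed k] {A : Over (Spec (CommRingCat.of k))} [GrpObj A] [IsProper A.hom]
  [GeometricallyIntegral A.hom] {L : A.left.Modules} {hL : PicF.IsInvertible L}
  {Y : Over (Spec (CommRingCat.of k))} [GrpObj Y] [IsProper Y.hom] [GeometricallyIntegral Y.hom]
  {π : A ⟶ Y} [IsMonHom π] [IsFinite π.left] [Surjective π.left] {Q : (Y ⊗ A).left.Modules}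
  {hQ : PicF.IsInvertible Q} (h : QuotPair hL Y π hQ) {T U : Over (Spec (CommRingCat.of k))}

variable (hQ) in
/-- `y` is the point of the isomorphism class. -/
def GoodCl (c : PicF.Cl (PicF.XT A.hom T)) (y : T ⟶ Y) : Prop :=
  ∀ (F : (PicF.XT A.hom T).Modules) (hF : PicF.IsInvertible F), PicF.cl F = c →
    Good hQ (clA hF : PicA (A ⊗ T).left) y

open scoped Classical in
variable (hQ) in
/-- The map of classes to points. -/
def phi (T : Over (Spec (CommRingCat.of k))) (c : PicF.Cl (PicF.XT A.hom T)) : T ⟶ Y :=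
  if hc : ∃ y, GoodCl hQ c y then hc.choose else 1

theorem goodCl_of_good {F : (PicF.XT A.hom T).Modules} (hF : PicF.IsInvertible F) {y : T ⟶ Y}
    (hy : Good hQ (clA hF : PicA (A ⊗ T).left) y) : GoodCl hQ (PicF.cl F) y := fun F' hF' e => by
  rw [show clA hF' = clA hF from (clA_eq_iff hF' hF).2 (cl_eq_iff.1 (congrArg toI e))]
  exact hy

include h in
theorem phi_eq {F : (PicF.XT A.hom T).Modules} (hF : PicF.IsInvertible F) {y : T ⟶ Y}
    (hy : Good hQ (clA hF : PicA (A ⊗ T).left) y) : phi hQ T (PicF.cl F) = y := by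
  have hc : ∃ y, GoodCl hQ (PicF.cl F) y := ⟨y, goodCl_of_good hF hy⟩
  rw [phi, dif_pos hc]
  exact (hc.choose_spec F hF rfl).unique h hy

include h in
theorem exists_good_cl {c : PicF.Cl (PicF.XT A.hom T)} (hc : AbDual.IsPicZeroCl A.hom T c) :
    ∃ (F : (PicF.XT A.hom T).Modules) (hF : PicF.IsInvertible F) (y : T ⟶ Y),
      PicF.cl F = c ∧ Good hQ (clA hF : PicA (A ⊗ T).left) y ∧ phi hQ T c = y := by
  obtain ⟨F, rfl, hF, ha⟩ := hc
  have hadd : AddFam (clA hF : PicA (A ⊗ T).left) := addFam_of_isPicZeroCl hF ⟨F, rfl, hF, ha⟩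
  obtain ⟨y, hy⟩ := exists_good (T := T) h (F := (show (A ⊗ T).left.Modules from F)) hF hadd
  exact ⟨F, hF, y, rfl, hy, phi_eq h hF hy⟩

theorem isInvertible_exists_cover {X : Scheme.{u}} {D : X.Modules} (hD : PicF.IsInvertible D) (x : X) :
    ∃ (V : X.Opens), x ∈ V ∧ pullA V.ι (clA hD) = 0 := by
  obtain ⟨V, hxV, ⟨e⟩⟩ := hD x
  refine ⟨V, hxV, ?_⟩
  rw [pullA_clA, ← clA_one, clA_eq_iff]
  exact ⟨((Scheme.Modules.restrictFunctorIsoPullback V.ι).app D).symm ≪≫ e⟩

include h in
/-- Classes with the same point agree locally. -/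
theorem exists_cover_eq {F F' : (PicF.XT A.hom T).Modules} (hF : PicF.IsInvertible F) (hF' : PicF.IsInvertible F')
    {y : T ⟶ Y} (hy : Good hQ (clA hF : PicA (A ⊗ T).left) y) (hy' : Good hQ (clA hF' : PicA (A ⊗ T).left) y)
    (x : T.left) : ∃ (V : Scheme.{u}) (v : V ⟶ T.left), IsOpenImmersion v ∧ x ∈ Set.range v ∧
      PicF.pullCl (PicF.XTmap A.hom (AbDual.ovrHom T v)) (PicF.cl F) =
        PicF.pullCl (PicF.XTmap A.hom (AbDual.ovrHom T v)) (PicF.cl F') := by
  let 𝒰 := T.left.affineCover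
  obtain ⟨x', hx'⟩ := 𝒰.covers x
  obtain ⟨ψ, g, hg⟩ := exists_spec (T := T) (𝒰.f (𝒰.idx x))
  obtain ⟨M, hM, e⟩ := hy _ ψ g
  obtain ⟨M', hM', e'⟩ := hy' _ ψ g
  obtain ⟨D, hD, cD⟩ := exists_sub hM hM'
  obtain ⟨V, hxV, hV⟩ := isInvertible_exists_cover hD x'
  let v : V.toScheme ⟶ T.left := V.ι ≫ 𝒰.f (𝒰.idx x)
  haveI : IsOpenImmersion (𝒰.f (𝒰.idx x)) := inferInstance
  refine ⟨V.toScheme, v, inferInstance, ⟨⟨x', hxV⟩, hx'⟩, ?_⟩
  let a : AbDual.ovr T v ⟶ spec ψ := Over.homMk V.ι (by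
    show V.ι ≫ (spec ψ).hom = v ≫ T.hom
    rw [← Over.w g, hg, Category.assoc])
  have ha : AbDual.ovrHom T v = a ≫ g := Over.OverMorphism.ext (by
    show v = V.ι ≫ g.left
    rw [hg])
  have key : pullA (A ◁ AbDual.ovrHom T v).left (clA hF : PicA (A ⊗ T).left) =
      pullA (A ◁ AbDual.ovrHom T v).left (clA hF' : PicA (A ⊗ T).left) := by
    rw [ha, ← pullA_whisker, ← pullA_whisker, e, e']
    have hsub : clA hM = clA hD + clA hM' := by rw [cD, sub_add_cancel]
    rw [hsub, map_add, map_add, map_add, map_add]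
    have h0 : pullA (A ◁ a).left (pullA (snd A (spec ψ)).left (clA hD)) = 0 := by
      rw [pullA_comp, ← Over.comp_left, whiskerLeft_snd, Over.comp_left, ← pullA_comp]
      show pullA _ (pullA V.ι (clA hD)) = 0
      rw [hV, map_zero]
    rw [h0, zero_add]
  rw [AVThetaLib.XTmap_eq] at key
  exact pullCl_eq_of_classes hF hF' key
where
  pullCl_eq_of_classes {X X' : Scheme.{u}} {g : X' ⟶ X} {F F' : X.Modules} (hF : PicF.IsInvertible F)
      (hF' : PicF.IsInvertible F') (e : pullA g (clA hF) = pullA g (clA hF')) :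
      PicF.pullCl g (PicF.cl F) = PicF.pullCl g (PicF.cl F') := by
    rw [pullA_clA _ hF, pullA_clA _ hF', clA_eq_iff] at e
    exact Quot.sound e

include h in
/-- The quotient is a dual. -/
theorem isDualAV : AbDual.IsDualAV Scheme.fppfPrecoverage A Y (phi hQ) where
  relPic :=
    { natural := fun T T' g c hc => by
        obtain ⟨F, hF, y, rfl, hy, e⟩ := exists_good_cl h hc
        rw [e]
        refine phi_eq h (AmpleDevLib.isInvertible_pb (PicF.XTmap A.hom g) hF) ?_
        have h1 := hy.pull g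
        rw [AVThetaLib.XTmap_eq] at h1
        rw [← pullA_clA _ hF]
        exact h1
      locallySurjective := fun T g => by
        obtain ⟨F, hF, cF, hF0⟩ := exists_fam_module h
        refine ⟨Presieve.singleton (𝟙 T.left), Scheme.Hom.singleton_mem_fppfPrecoverage (𝟙 T.left), fun U u _ =>
          ⟨_, isPicZeroCl_XTmap (AbDual.ovrHom T u ≫ g) hF0, ?_⟩⟩
        refine phi_eq h (AmpleDevLib.isInvertible_pb (PicF.XTmap A.hom (AbDual.ovrHom T u ≫ g)) hF) ?_
        have h1 := (good_fam (hQ := hQ) (𝟙 Y)).pull (AbDual.ovrHom T u ≫ g)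
        rw [← cF, AVThetaLib.XTmap_eq, Category.comp_id] at h1
        rw [← pullA_clA _ hF]
        exact h1
      locallyInjective := fun T c c' hc hc' e => by
        obtain ⟨F, hF, y, rfl, hy, ey⟩ := exists_good_cl h hc
        obtain ⟨F', hF', y', rfl, hy', ey'⟩ := exists_good_cl h hc'
        obtain rfl : y = y' := ey.symm.trans (e.trans ey')
        choose V v hv hxv heq using exists_cover_eq h hF hF' hy hy'
        haveI := hv
        refine ⟨Presieve.ofArrows V v, Scheme.zariskiPrecoverage_le_fppfPrecoverage _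
          ((Scheme.ofArrows_mem_precoverage_iff _).2 ⟨fun x => ⟨x, hxv x⟩, hv⟩), ?_⟩
        rintro U u ⟨x⟩
        exact heq x }
  mul T L₁ L₂ h₁ h₂ := by
    obtain ⟨F₁, hF₁, y₁, e₁, hy₁, ey₁⟩ := exists_good_cl h h₁
    obtain ⟨F₂, hF₂, y₂, e₂, hy₂, ey₂⟩ := exists_good_cl h h₂
    rw [ey₁, ey₂]
    have hL₁ : PicF.IsInvertible L₁ := HilbPolyLib.isInvertible_of_iso (cl_eq_iff.1 (congrArg toI e₁)).some hF₁
    have hL₂ : PicF.IsInvertible L₂ := HilbPolyLib.isInvertible_of_iso (cl_eq_iff.1 (congrArg toI e₂)).some hF₂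
    refine phi_eq h (HilbPolyLib.isInvertible_tensor hL₁ hL₂) ?_
    rw [clA_tensor hL₁ hL₂]
    exact (goodCl_of_good hF₁ hy₁ L₁ hL₁ e₁.symm).add h (goodCl_of_good hF₂ hy₂ L₂ hL₂ e₂.symm)

include h in
theorem exists_poincare : ∃ (P : (PicF.XT A.hom Y).Modules) (_ : PicF.IsInvertible P),
    AbDual.IsPoincareCl A Y (phi hQ) (PicF.cl P) := by
  obtain ⟨F, hF, cF, hF0⟩ := exists_fam_module h
  refine ⟨F, hF, hF0, phi_eq h hF (cF ▸ good_fam (𝟙 Y)), ?_⟩
  have hs : PicF.secT A.hom η[A].left (Over.w η[A]) Y = (lift (1 : Y ⟶ A) (𝟙 Y)).left := by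
    apply Limits.pullback.hom_ext
    · refine (Limits.pullback.lift_fst _ _ _).trans ?_
      refine Eq.trans ?_ (congrArg Over.Hom.left (lift_fst (1 : Y ⟶ A) (𝟙 Y))).symm
      rw [show (1 : Y ⟶ A) = toUnit _ ≫ η from Hom.one_def, Over.comp_left]
      rfl
    · exact (Limits.pullback.lift_snd _ _ _).trans (congrArg Over.Hom.left (lift_snd (1 : Y ⟶ A) (𝟙 Y))).symm
  refine Quot.sound ((clA_eq_iff (AmpleDevLib.isInvertible_pb _ hF) (isInvertible_one _)).1 ?_)
  rw [clA_one, ← pullA_clA _ hF, hs]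
  show pullA (lift (1 : Y ⟶ A) (𝟙 Y)).left (clA hF : PicA (A ⊗ Y).left) = 0
  rw [cF]
  exact fam_sec h (𝟙 Y)

/-- **An abelian variety over an algebraically closed field has a dual, with a Poincaré class.** -/
theorem exists_dual (A : Over (Spec (CommRingCat.of k))) [GrpObj A] [IsProper A.hom]
    [GeometricallyIntegral A.hom] :
    ∃ (At : Over (Spec (CommRingCat.of k))) (_ : GrpObj At) (_ : IsProper At.hom)
      (_ : GeometricallyIntegral At.hom) (φ : AgPol.DualMap A At) (P : (PicF.XT A.hom At).Modules)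
      (_ : PicF.IsInvertible P),
      AbDual.IsDualAV Scheme.fppfPrecoverage A At φ ∧ AbDual.IsPoincareCl A At φ (PicF.cl P) := by
  haveI : Flat A.hom := inferInstance
  haveI : LocallyOfFinitePresentation A.hom := LocallyOfFinitePresentation.iff_locallyOfFiniteType.2 inferInstance
  obtain ⟨L, hLa⟩ := AVAmpleLib.exists_ample A
  obtain ⟨Y, _, _, _, π, _, _, _, Q, hQ, h⟩ := exists_quotPair hLa.1 fun K iK hK => by
    haveI := hK.closed
    exact AVAmpleLib.isFinite_of_mumfordTriv hLa.1 ((MiscFlat6.isRelAmple_iff_isAmple A.hom L).2 hLa) iK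
      ((hK.univ K iK).2 ⟨𝟙 _, Category.id_comp _⟩)
  obtain ⟨P, hP, hPξ⟩ := exists_poincare h
  exact ⟨Y, inferInstance, inferInstance, inferInstance, phi hQ, P, hP, isDualAV h, hPξ⟩

end Groth.Agent.DualExistLib
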