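import Groth.Agent.AVDualLib.Dual

/-!
Families over the quotient by `K(L)`: the point of an additive family, glued from affine pieces.
-/

set_option autoImplicit false
set_option maxHeartbeats 1000000
set_option maxRecDepth 8000
set_option backward.isDefEq.respectTransparency false
set_option linter.style.haveILetI false
set_option linter.unusedSectionVars false

noncomputable section

universe u

open CategoryTheory CategoryTheory.Limits MonoidalCategory CartesianMonoidalCategory MonObj AlgebraicGeometry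
open CubeConsLib AVVanishLib AVAmpleLib AVIndexLib AVThetaLib ThetaGrp AVDualLib

namespace Groth.Agent.DualExistLib

variable {k : Type u} [Field k] [IsAlgClosed k] {A : Over (Spec (CommRingCat.of k))} [GrpObj A] [IsProper A.hom]
  [GeometricallyIntegral A.hom] {L : A.left.Modules} {hL : PicF.IsInvertible L}
  {Y : Over (Spec (CommRingCat.of k))} [GrpObj Y] [IsProper Y.hom] [GeometricallyIntegral Y.hom]
  {π : A ⟶ Y} [IsMonHom π] [IsFinite π.left] [Surjective π.left] {Q : (Y ⊗ A).left.Modules}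
  {hQ : PicF.IsInvertible Q} (h : QuotPair hL Y π hQ) {T U : Over (Spec (CommRingCat.of k))}

/-- An affine test object. -/
abbrev spec {R : Type u} [CommRing R] (ψ : k →+* R) : Over (Spec (CommRingCat.of k)) :=
  Over.mk (Spec.map (CommRingCat.ofHom ψ))

/-- Every morphism from a spectrum to the base is an affine test object. -/
theorem exists_spec {R : CommRingCat.{u}} (f : Spec R ⟶ T.left) :
    ∃ (ψ : k →+* R) (g : spec ψ ⟶ T), g.left = f := by
  have hχ : Spec.map (CommRingCat.ofHom (Spec.preimage (f ≫ T.hom)).hom) = f ≫ T.hom := Spec.map_preimage _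
  exact ⟨(Spec.preimage (f ≫ T.hom)).hom, Over.homMk f hχ.symm, rfl⟩

variable (hQ) in
/-- `y` is the point of the class: on affine test objects the class is the family of `y`, up to the base. -/
def Good (c : PicA (A ⊗ T).left) (y : T ⟶ Y) : Prop :=
  ∀ (R : Type u) [CommRing R] (ψ : k →+* R) (g : spec ψ ⟶ T),
    ∃ (M : (spec ψ).left.Modules) (hM : PicF.IsInvertible M),
      pullA (A ◁ g).left c = fam hQ (g ≫ y) + pullA (snd A (spec ψ)).left (clA hM)

theorem pullA_whisker {W V : Over (Spec (CommRingCat.of k))} (g : W ⟶ V) (g' : V ⟶ T) (c : PicA (A ⊗ T).left) :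
    pullA (A ◁ g).left (pullA (A ◁ g').left c) = pullA (A ◁ (g ≫ g')).left c := by
  rw [pullA_comp, ← Over.comp_left, ← MonoidalCategory.whiskerLeft_comp]

theorem Good.pull {c : PicA (A ⊗ T).left} {y : T ⟶ Y} (hy : Good hQ c y) (g : U ⟶ T) :
    Good hQ (pullA (A ◁ g).left c) (g ≫ y) := fun R _ ψ g' => by
  obtain ⟨M, hM, e⟩ := hy R ψ (g' ≫ g)
  exact ⟨M, hM, by rw [pullA_whisker, e, Category.assoc]⟩

include h in
theorem fam_mul (y y' : T ⟶ Y) : fam hQ (y * y') = fam hQ y + fam hQ y' := by
  rw [fam, fam, fam, MonObj.comp_mul]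
  exact h.mul_right _ _ _

include h in
theorem Good.add {c c' : PicA (A ⊗ T).left} {y y' : T ⟶ Y} (hy : Good hQ c y) (hy' : Good hQ c' y') :
    Good hQ (c + c') (y * y') := fun R _ ψ g => by
  obtain ⟨M, hM, e⟩ := hy R ψ g
  obtain ⟨M', hM', e'⟩ := hy' R ψ g
  refine ⟨_, HilbPolyLib.isInvertible_tensor hM hM', ?_⟩
  rw [map_add, e, e', clA_tensor hM hM', map_add, MonObj.comp_mul, fam_mul h]
  abel

theorem good_fam (y : T ⟶ Y) : Good hQ (fam hQ y) y := fun R _ ψ g =>
  ⟨Coh.structureModule _, isInvertible_one _, by rw [pullA_fam, clA_one, map_zero, add_zero]⟩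

theorem eq_of_cover {y y' : T ⟶ Y} (he : ∀ (R : Type u) [CommRing R] (ψ : k →+* R) (g : spec ψ ⟶ T), g ≫ y = g ≫ y') :
    y = y' := by
  ext1
  refine T.left.affineCover.hom_ext _ _ fun i => ?_
  obtain ⟨ψ, g, hg⟩ := exists_spec (T.left.affineCover.f i)
  rw [← hg]
  exact congrArg Over.Hom.left (he _ ψ g)

include h in
/-- The point of a class is unique. -/
theorem Good.unique {c : PicA (A ⊗ T).left} {y y' : T ⟶ Y} (hy : Good hQ c y) (hy' : Good hQ c y') : y = y' :=
  eq_of_cover fun R _ ψ g => by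
    obtain ⟨M, hM, e⟩ := hy R ψ g
    obtain ⟨M', hM', e'⟩ := hy' R ψ g
    refine eq_of_fam h (N := clA hM' - clA hM) ?_
    rw [map_sub]
    calc fam hQ (g ≫ y) = pullA (A ◁ g).left c - pullA (snd A (spec ψ)).left (clA hM) := eq_sub_of_add_eq e.symm
      _ = _ := by rw [e']; abel

include h in
/-- An additive family over an affine test object has a point. -/
theorem exists_good_spec {F : (A ⊗ T).left.Modules} (hF : PicF.IsInvertible F)
    (hadd : AddFam (clA hF : PicA (A ⊗ T).left)) {R : Type u} [CommRing R] (ψ : k →+* R) (g : spec ψ ⟶ T) :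
    ∃ y : spec ψ ⟶ Y, Good hQ (pullA (A ◁ g).left (clA hF)) y := by
  let Fc : (PicF.XT A.hom (spec ψ)).Modules := (Scheme.Modules.pullback (A ◁ g).left).obj F
  have hc : PicF.IsInvertible Fc := AmpleDevLib.isInvertible_pb (A ◁ g).left hF
  have ec : (clA hc : PicA (A ⊗ spec ψ).left) = pullA (A ◁ g).left (clA hF) := (pullA_clA (A ◁ g).left hF).symm
  obtain ⟨y, M, hM, e⟩ := exists_fam h ψ hc (ec ▸ hadd.pull g)
  refine ⟨y, fun R' _ ψ' g' => ⟨_, AmpleDevLib.isInvertible_pb g'.left hM, ?_⟩⟩
  rw [← ec]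
  refine (congrArg (pullA (A ◁ g').left) e).trans ?_
  rw [map_add, pullA_fam, ← pullA_clA g'.left hM]
  refine congrArg (_ + ·) ?_
  rw [pullA_comp, pullA_comp, ← Over.comp_left, ← Over.comp_left, whiskerLeft_snd]

include h in
/-- Every additive family has a point. -/
theorem exists_good {F : (A ⊗ T).left.Modules} (hF : PicF.IsInvertible F)
    (hadd : AddFam (clA hF : PicA (A ⊗ T).left)) : ∃ y : T ⟶ Y, Good hQ (clA hF : PicA (A ⊗ T).left) y := by
  let 𝒰 := T.left.affineCover
  choose ψ g hg using fun i => exists_spec (T := T) (𝒰.f i)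
  choose y hy using fun i => exists_good_spec h hF hadd (ψ i) (g i)
  -- compatibility on the overlaps
  have key : ∀ {W : Over (Spec (CommRingCat.of k))} (i j) (a : W ⟶ spec (ψ i)) (b : W ⟶ spec (ψ j)),
      a ≫ g i = b ≫ g j → a ≫ y i = b ≫ y j := fun {W} i j a b e => by
    have h1 := (hy i).pull a
    have h2 := (hy j).pull b
    rw [pullA_whisker] at h1 h2
    rw [e] at h1
    exact h1.unique h h2
  have hglue : ∀ i j, pullback.fst (𝒰.f i) (𝒰.f j) ≫ (y i).left = pullback.snd (𝒰.f i) (𝒰.f j) ≫ (y j).left := by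
    intro i j
    let W : Over (Spec (CommRingCat.of k)) := Over.mk (pullback.fst (𝒰.f i) (𝒰.f j) ≫ (spec (ψ i)).hom)
    let a : W ⟶ spec (ψ i) := Over.homMk (pullback.fst (𝒰.f i) (𝒰.f j)) rfl
    let b : W ⟶ spec (ψ j) := Over.homMk (pullback.snd (𝒰.f i) (𝒰.f j)) (by
      show _ = pullback.fst (𝒰.f i) (𝒰.f j) ≫ (spec (ψ i)).hom
      rw [← Over.w (g i), ← Over.w (g j), hg, hg, ← Category.assoc, ← Category.assoc, pullback.condition])
    exact congrArg Over.Hom.left (key i j a b (Over.OverMorphism.ext (by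
      show pullback.fst _ _ ≫ (g i).left = pullback.snd _ _ ≫ (g j).left
      rw [hg, hg]
      exact pullback.condition)))
  let yl : T.left ⟶ Y.left := 𝒰.glueMorphisms (fun i => (y i).left) hglue
  have hyl : ∀ i, 𝒰.f i ≫ yl = (y i).left := fun i => Scheme.Cover.ι_glueMorphisms _ _ _ i
  let Yp : T ⟶ Y := Over.homMk yl (𝒰.hom_ext _ _ fun i => by
    rw [← Category.assoc, hyl, Over.w (y i), ← hg i]
    exact (Over.w (g i)).symm)
  have hgy : ∀ i, g i ≫ Yp = y i := fun i => Over.OverMorphism.ext (by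
    rw [Over.comp_left, hg i]
    exact hyl i)
  refine ⟨Yp, fun R _ χ f => ?_⟩
  obtain ⟨z, hz⟩ := exists_good_spec h hF hadd χ f
  have hfz : f ≫ Yp = z := by
    -- locally on the test object
    ext1
    refine Scheme.Cover.hom_ext (𝒰.pullback₁ f.left) _ _ fun i => ?_
    let W : Over (Spec (CommRingCat.of k)) := Over.mk (pullback.fst f.left (𝒰.f i) ≫ (spec χ).hom)
    let a : W ⟶ spec χ := Over.homMk (pullback.fst f.left (𝒰.f i)) rfl
    let b : W ⟶ spec (ψ i) := Over.homMk (pullback.snd f.left (𝒰.f i)) (by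
      show _ = pullback.fst f.left (𝒰.f i) ≫ (spec χ).hom
      rw [← Over.w (g i), ← Over.w f, hg, ← Category.assoc, ← Category.assoc, pullback.condition])
    have e : a ≫ f = b ≫ g i := Over.OverMorphism.ext (by
      show pullback.fst _ _ ≫ f.left = pullback.snd _ _ ≫ (g i).left
      rw [hg]
      exact pullback.condition)
    have h1 := hz.pull a
    have h2 := (hy i).pull b
    rw [pullA_whisker] at h1 h2
    rw [e] at h1
    have := congrArg Over.Hom.left ((h1.unique h h2).trans (congrArg (b ≫ ·) (hgy i).symm))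
    rw [← Category.assoc, ← e, Category.assoc] at this
    exact this.symm
  obtain ⟨M, hM, eM⟩ := hz R χ (𝟙 _)
  rw [pullA_whisker, Category.id_comp, Category.id_comp] at eM
  exact ⟨M, hM, by rw [hfz]; exact eM⟩

end Groth.Agent.DualExistLib
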